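import Groth.Agent.H9HomFEt.Split
import Groth.Agent.HomScheme.Main
import Groth.Agent.EtFound.Descent
import Groth.Agent.SchTorsor.Props

/-!
# The scheme of morphisms between two finite étale covers is a finite étale cover
-/

set_option autoImplicit false
set_option backward.isDefEq.respectTransparency false
set_option backward.isDefEq.respectTransparency.types false
set_option linter.style.haveILetI false

universe u

open CategoryTheory CategoryTheory.Limits MonoidalCategory CartesianMonoidalCategory AlgebraicGeometry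

namespace Groth.Agent.H9HomFEt

variable {Y S T : Scheme.{u}}

/-- The `n`-fold fibre power of a finite étale scheme. -/
theorem exists_power (p : Y ⟶ S) (hp : FEt.prop p) (j : T ⟶ S) : ∀ n : ℕ,
    ∃ (Z : Scheme.{u}) (z : Z ⟶ T) (e : Fin n → (Z ⟶ Y)), FEt.prop z ∧ (∀ i, e i ≫ p = z ≫ j) ∧
      ∀ (R : Scheme.{u}) (r : R ⟶ T) (f : Fin n → (R ⟶ Y)), (∀ i, f i ≫ p = r ≫ j) →
        ∃! k : R ⟶ Z, k ≫ z = r ∧ ∀ i, k ≫ e i = f i := by
  intro n
  induction n with
  | zero =>
    exact ⟨T, 𝟙 T, Fin.elim0, FEt.prop.id_mem T, fun i => i.elim0, fun R r f _ =>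
      ⟨r, ⟨Category.comp_id r, fun i => i.elim0⟩, fun k hk => (Category.comp_id k).symm.trans hk.1⟩⟩
  | succ n ih =>
    obtain ⟨Z, z, e, hz, hw, hu⟩ := ih
    refine ⟨pullback (z ≫ j) p, pullback.fst (z ≫ j) p ≫ z,
      Fin.snoc (fun i => pullback.fst (z ≫ j) p ≫ e i) (pullback.snd (z ≫ j) p),
      FEt.prop.comp_mem _ _ (MorphismProperty.pullback_fst _ _ hp) hz, fun i => ?_, fun R r f hf => ?_⟩
    · refine Fin.lastCases ?_ (fun i => ?_) i
      · rw [Fin.snoc_last, Category.assoc]
        exact pullback.condition.symm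
      · rw [Fin.snoc_castSucc, Category.assoc, hw i, Category.assoc]
    · obtain ⟨k, ⟨hk1, hk2⟩, hk3⟩ := hu R r (fun i => f i.castSucc) (fun i => hf i.castSucc)
      refine ⟨pullback.lift k (f (Fin.last n)) (by rw [reassoc_of% hk1]; exact (hf _).symm), ⟨?_, fun i => ?_⟩,
        fun l hl => ?_⟩
      · rw [pullback.lift_fst_assoc, hk1]
      · refine Fin.lastCases ?_ (fun i => ?_) i
        · rw [Fin.snoc_last, pullback.lift_snd]
        · rw [Fin.snoc_castSucc, pullback.lift_fst_assoc, hk2]
      · have h1 : l ≫ pullback.fst (z ≫ j) p = k := hk3 _ ⟨by rw [Category.assoc]; exact hl.1, fun i => by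
          have := hl.2 i.castSucc
          rw [Fin.snoc_castSucc] at this
          rw [Category.assoc]; exact this⟩
        have h2 := hl.2 (Fin.last n)
        rw [Fin.snoc_last] at h2
        apply pullback.hom_ext
        · rw [h1, pullback.lift_fst]
        · rw [h2, pullback.lift_snd]

variable {U V M : Over S}

/-- The scheme of morphisms becomes a fibre power once the source splits. -/
theorem prop_of_isSplitting (ev : U ⊗ M ⟶ V)
    (hu : ∀ (T : Over S) (φ : U ⊗ T ⟶ V), ∃! v : T ⟶ M, (U ◁ v) ≫ ev = φ)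
    (hV : FEt.prop V.hom) (j : T ⟶ S) {n : ℕ} (σ : Fin n → (T ⟶ U.left)) (h : IsSplitting U.hom j σ) :
    FEt.prop (pullback.snd M.hom j) := by
  obtain ⟨Z, z, e, hz, hw, hZ⟩ := exists_power V.hom hV j n
  let e' : Fin n → (pullback M.hom j ⟶ V.left) := fun i =>
    pullback.lift (pullback.snd M.hom j ≫ σ i) (pullback.fst M.hom j)
      (by rw [Category.assoc, h.w i]; exact pullback.condition.symm) ≫ ev.left
  have hev : ev.left ≫ V.hom = pullback.fst U.hom M.hom ≫ U.hom := Over.w ev
  have hw' : ∀ i, e' i ≫ V.hom = pullback.snd M.hom j ≫ j := fun i => by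
    simp only [e', Category.assoc, hev]
    rw [pullback.lift_fst_assoc, Category.assoc, h.w i]
  have hM : ∀ (R : Scheme.{u}) (r : R ⟶ T) (f : Fin n → (R ⟶ V.left)), (∀ i, f i ≫ V.hom = r ≫ j) →
      ∃! k : R ⟶ pullback M.hom j, k ≫ pullback.snd M.hom j = r ∧ ∀ i, k ≫ e' i = f i := by
    intro R r f hf
    let T' : Over S := Over.mk (r ≫ j)
    have h' : IsSplitting U.hom (r ≫ j) fun i => r ≫ σ i := h.baseChange r _ rfl
    obtain ⟨hc⟩ := h'.nonempty_isColimit
    let φ : U ⊗ T' ⟶ V := Over.homMk (Cofan.IsColimit.desc hc f) (by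
      refine Cofan.IsColimit.hom_ext hc _ _ fun i => ?_
      show pullback.lift _ _ _ ≫ Cofan.IsColimit.desc hc f ≫ V.hom =
        pullback.lift _ _ _ ≫ pullback.fst U.hom (r ≫ j) ≫ U.hom
      erw [Cofan.IsColimit.fac_assoc hc f i, pullback.lift_fst_assoc]
      rw [hf i, h'.w i])
    have hφ : ∀ i, pullback.lift (r ≫ σ i) (𝟙 R) ((h'.w i).trans (Category.id_comp (r ≫ j)).symm) ≫ φ.left = f i :=
      fun i => Cofan.IsColimit.fac hc f i
    obtain ⟨v, hv, huv⟩ := hu T' φ
    have key : ∀ (v' : T' ⟶ M) (i : Fin n),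
        pullback.lift (r ≫ σ i) (𝟙 R) ((h'.w i).trans (Category.id_comp (r ≫ j)).symm) ≫ ((U ◁ v') ≫ ev).left =
          pullback.lift v'.left r (Over.w v') ≫ e' i := by
      intro v' i
      rw [Over.comp_left]
      simp only [e', ← Category.assoc]
      congr 1
      apply pullback.hom_ext
      · rw [Category.assoc, Over.whiskerLeft_left_fst]
        erw [pullback.lift_fst]
        rw [Category.assoc, pullback.lift_fst, pullback.lift_snd_assoc]
      · rw [Category.assoc, Over.whiskerLeft_left_snd]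
        erw [pullback.lift_snd_assoc]
        simp only [Category.assoc, pullback.lift_snd, pullback.lift_fst]
        exact Category.id_comp _
    refine ⟨pullback.lift v.left r (Over.w v), ⟨pullback.lift_snd _ _ _, fun i => ?_⟩, fun k hk => ?_⟩
    · rw [← key v i, hv, hφ i]
    · let v' : T' ⟶ M := Over.homMk (k ≫ pullback.fst M.hom j) (by
        show (k ≫ pullback.fst M.hom j) ≫ M.hom = r ≫ j
        rw [Category.assoc, pullback.condition, ← hk.1, Category.assoc])
      have hk' : k = pullback.lift v'.left r (Over.w v') := by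
        apply pullback.hom_ext
        · rw [pullback.lift_fst]; rfl
        · rw [pullback.lift_snd, hk.1]
      have : v' = v := huv v' (by
        apply Over.OverMorphism.ext
        refine Cofan.IsColimit.hom_ext hc _ _ fun i => ?_
        show pullback.lift _ _ _ ≫ _ = pullback.lift _ _ _ ≫ φ.left
        rw [key v' i]
        exact ((congrArg (fun m => m ≫ e' i) hk'.symm).trans (hk.2 i)).trans (hφ i).symm)
      rw [hk', this]
  obtain ⟨a, ⟨ha1, ha2⟩, -⟩ := hZ _ (pullback.snd M.hom j) e' hw'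
  obtain ⟨b, ⟨hb1, hb2⟩, -⟩ := hM Z z e hw
  have hab : a ≫ b = 𝟙 _ := (hM _ _ e' hw').unique
    ⟨by rw [Category.assoc, hb1, ha1], fun i => by rw [Category.assoc, hb2, ha2]⟩
    ⟨Category.id_comp _, fun i => Category.id_comp _⟩
  have hba : b ≫ a = 𝟙 _ := (hZ _ _ e hw).unique
    ⟨by rw [Category.assoc, ha1, hb1], fun i => by rw [Category.assoc, ha2, hb2]⟩
    ⟨Category.id_comp _, fun i => Category.id_comp _⟩
  haveI : IsIso a := ⟨b, hab, hba⟩
  rw [← ha1]
  exact (MorphismProperty.cancel_left_of_respectsIso FEt.prop a z).2 hz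

theorem exists_homFEt {X : Scheme.{u}} (U V : FEt.Cat X) :
    ∃ W : FEt.Cat X, ∀ (T : Scheme.{u}) (g : T ⟶ X),
      Nonempty ({s : T ⟶ W.left // s ≫ W.hom = g} ≃ ((FEt.restrict g).obj U ⟶ (FEt.restrict g).obj V)) := by
  haveI : IsFinite U.hom := U.prop.1
  haveI : Etale U.hom := U.prop.2
  haveI : IsFinite V.hom := V.prop.1
  haveI : Etale V.hom := V.prop.2
  let U' : CategoryTheory.Over X := CategoryTheory.Over.mk U.hom
  let V' : CategoryTheory.Over X := CategoryTheory.Over.mk V.hom
  haveI : IsFinite U'.hom := U.prop.1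
  haveI : Etale U'.hom := U.prop.2
  haveI : IsFinite V'.hom := V.prop.1
  obtain ⟨M, ev, -, -, -, hu⟩ := HomScheme.exists_homScheme U' V'
  have hWl : ∀ s : X, ∃ (W : Scheme.{u}) (w : W ⟶ X), IsOpenImmersion w ∧ s ∈ Set.range w.base ∧
      FEt.prop (pullback.snd M.hom w) := by
    intro s
    obtain ⟨W, w, T, t, n, σ, hw, hs, ht, hσ⟩ := exists_isSplitting U'.hom s
    refine ⟨W, w, hw, hs, ?_⟩
    have hT : FEt.prop (pullback.snd M.hom (t ≫ w)) := prop_of_isSplitting ev hu V.prop (t ≫ w) σ hσ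
    let a : pullback M.hom (t ≫ w) ⟶ pullback M.hom w :=
      pullback.lift (pullback.fst _ _) (pullback.snd _ _ ≫ t) (by rw [Category.assoc]; exact pullback.condition)
    have sq : IsPullback a (pullback.snd M.hom (t ≫ w)) (pullback.snd M.hom w) t := by
      refine IsPullback.of_right (h₁₂ := pullback.fst M.hom w) (v₁₃ := M.hom) (h₂₂ := w) ?_ ?_
        (IsPullback.of_hasPullback M.hom w)
      · rw [pullback.lift_fst]
        exact IsPullback.of_hasPullback M.hom (t ≫ w)
      · exact pullback.lift_snd _ _ _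
    haveI := EtFound.fpqc_isFinite.{u}
    exact ⟨MorphismProperty.of_isPullback_of_descendsAlong (P := @IsFinite)
        (Q := (@Surjective ⊓ @Flat ⊓ @QuasiCompact : MorphismProperty Scheme.{u})) sq.flip ht hT.1,
      MorphismProperty.of_isPullback_of_descendsAlong (P := @Etale)
        (Q := (@Surjective ⊓ @Flat ⊓ @QuasiCompact : MorphismProperty Scheme.{u})) sq.flip ht hT.2⟩
  choose W w hw hs hP using hWl
  let 𝒰 : X.OpenCover := Scheme.Cover.mkOfCovers X W w
    (fun s => ⟨s, Set.mem_range.1 (hs s)⟩) hw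
  have hprop : FEt.prop M.hom :=
    ⟨IsZariskiLocalAtTarget.of_openCover (P := @IsFinite) (𝒰 := 𝒰) fun i => (hP i).1,
      IsZariskiLocalAtTarget.of_openCover (P := @Etale) (𝒰 := 𝒰) fun i => (hP i).2⟩
  refine ⟨MorphismProperty.Over.mk ⊤ M.hom hprop, fun T g => ⟨?_⟩⟩
  let e₁ : {s : T ⟶ M.left // s ≫ M.hom = g} ≃ (Over.mk g ⟶ M) :=
    ⟨fun s => Over.homMk s.1 s.2, fun v => ⟨v.left, Over.w v⟩, fun _ => rfl,
      fun _ => Over.OverMorphism.ext rfl⟩
  let e₂ : (Over.mk g ⟶ M) ≃ (U' ⊗ Over.mk g ⟶ V') :=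
    Equiv.ofBijective (fun v => (U' ◁ v) ≫ ev)
      ⟨fun v v' h => (hu _ _).unique h rfl, fun φ => (hu _ φ).exists⟩
  let e₃ : (U' ⊗ Over.mk g ⟶ V') ≃ ((FEt.restrict g).obj U ⟶ (FEt.restrict g).obj V) :=
    { toFun := fun φ => MorphismProperty.Over.homMk
        (pullback.lift φ.left (pullback.snd U.hom g) ((Over.w φ).trans pullback.condition))
        (pullback.lift_snd _ _ _) trivial
      invFun := fun ψ => Over.homMk (ψ.left ≫ pullback.fst V.hom g) (by
        show (ψ.left ≫ pullback.fst V.hom g) ≫ V.hom = pullback.fst U.hom g ≫ U.hom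
        rw [Category.assoc, pullback.condition, ← Category.assoc]
        have hψ : ψ.left ≫ pullback.snd V.hom g = pullback.snd U.hom g := MorphismProperty.Over.w ψ
        rw [hψ]
        exact pullback.condition.symm)
      left_inv := fun φ => Over.OverMorphism.ext (pullback.lift_fst _ _ _)
      right_inv := fun ψ => MorphismProperty.Over.Hom.ext (by
        apply pullback.hom_ext
        · exact pullback.lift_fst _ _ _
        · exact (pullback.lift_snd _ _ _).trans (MorphismProperty.Over.w ψ).symm) }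
  exact e₁.trans (e₂.trans e₃)

end Groth.Agent.H9HomFEt
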