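import Groth.Agent.Pi1X.EtEqualizer
import Groth.Prelude.Def_FEt
import Mathlib.AlgebraicGeometry.Morphisms.UniversallyOpen
import Mathlib.AlgebraicGeometry.Morphisms.Etale
import Mathlib.Algebra.Category.Ring.Constructions

/-!
# Finite étale morphisms split étale locally
-/

set_option autoImplicit false
set_option backward.isDefEq.respectTransparency false
set_option backward.isDefEq.respectTransparency.types false
set_option linter.style.haveILetI false

universe u

open CategoryTheory CategoryTheory.Limits AlgebraicGeometry TopologicalSpace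
open scoped TensorProduct

namespace Groth.Agent.H9HomFEt

variable {X S T : Scheme.{u}}

/-- The sections `σ` decompose `X ×_S T` as a disjoint union of copies of `T`. -/
structure IsSplitting (π : X ⟶ S) (j : T ⟶ S) {n : ℕ} (σ : Fin n → (T ⟶ X)) : Prop where
  w : ∀ i, σ i ≫ π = j
  isOpenImm : ∀ i, IsOpenImmersion (pullback.lift (σ i) (𝟙 T) ((w i).trans (Category.id_comp j).symm))
  cover : ∀ p : ↑(pullback π j), ∃ i, p ∈ Set.range (pullback.lift (σ i) (𝟙 T) ((w i).trans (Category.id_comp j).symm)).base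
  disjoint : ∀ i k, ∀ p : ↑(pullback π j),
    p ∈ Set.range (pullback.lift (σ i) (𝟙 T) ((w i).trans (Category.id_comp j).symm)).base →
    p ∈ Set.range (pullback.lift (σ k) (𝟙 T) ((w k).trans (Category.id_comp j).symm)).base → i = k

theorem IsSplitting.baseChange {π : X ⟶ S} {j : T ⟶ S} {n : ℕ} {σ : Fin n → (T ⟶ X)} (h : IsSplitting π j σ)
    {R : Scheme.{u}} (r : R ⟶ T) (j' : R ⟶ S) (hj : r ≫ j = j') :
    IsSplitting π j' fun i => r ≫ σ i := by
  subst hj
  have hw : ∀ i, (r ≫ σ i) ≫ π = r ≫ j := fun i => by rw [Category.assoc, h.w i]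
  let a : pullback π (r ≫ j) ⟶ pullback π j :=
    pullback.lift (pullback.fst _ _) (pullback.snd _ _ ≫ r) (by rw [Category.assoc]; exact pullback.condition)
  have ha : IsPullback a (pullback.snd π (r ≫ j)) (pullback.snd π j) r := by
    refine IsPullback.of_right (h₁₂ := pullback.fst π j) (v₁₃ := π) (h₂₂ := j) ?_ ?_ (IsPullback.of_hasPullback π j)
    · rw [pullback.lift_fst]
      exact IsPullback.of_hasPullback π (r ≫ j)
    · exact pullback.lift_snd _ _ _
  let f := fun i => pullback.lift (σ i) (𝟙 T) ((h.w i).trans (Category.id_comp j).symm)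
  let g := fun i => pullback.lift (r ≫ σ i) (𝟙 R) ((hw i).trans (Category.id_comp (r ≫ j)).symm)
  have hg : ∀ i, IsPullback r (g i) (f i) a := by
    intro i
    refine IsPullback.of_bot ?_ ?_ ha
    · simp only [g, f, pullback.lift_snd]
      exact IsPullback.of_vert_isIso ⟨(Category.comp_id r).trans (Category.id_comp r).symm⟩
    · apply pullback.hom_ext <;> simp [g, f, a, (Category.id_comp r)]
  have key : ∀ i p, p ∈ Set.range (g i).base ↔ a.base p ∈ Set.range (f i).base := by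
    intro i p
    constructor
    · rintro ⟨z, rfl⟩
      refine ⟨r.base z, ?_⟩
      rw [← Scheme.Hom.comp_apply, ← Scheme.Hom.comp_apply, (hg i).w]
    · rintro ⟨t, ht⟩
      obtain ⟨z, -, hz⟩ := Scheme.exists_preimage_of_isPullback (hg i) t p ht
      exact ⟨z, hz⟩
  refine ⟨hw, fun i => ?_, fun p => ?_, fun i k p hi hk => ?_⟩
  · haveI := h.isOpenImm i
    exact MorphismProperty.of_isPullback (P := @IsOpenImmersion) (hg i) (h.isOpenImm i)
  · obtain ⟨i, hi⟩ := h.cover (a.base p)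
    exact ⟨i, (key i p).2 hi⟩
  · exact h.disjoint i k _ ((key i p).1 hi) ((key k p).1 hk)

/-- A splitting presents `X ×_S T` as a coproduct. -/
theorem IsSplitting.nonempty_isColimit {π : X ⟶ S} {j : T ⟶ S} {n : ℕ} {σ : Fin n → (T ⟶ X)}
    (h : IsSplitting π j σ) :
    Nonempty (IsColimit (Cofan.mk (pullback π j)
      fun i => pullback.lift (σ i) (𝟙 T) ((h.w i).trans (Category.id_comp j).symm))) := by
  haveI := h.isOpenImm
  refine nonempty_isColimit_cofanMk_of _ (top_unique fun p _ => ?_) fun i k hik => ?_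
  · obtain ⟨i, hi⟩ := h.cover p
    exact Opens.mem_iSup.2 ⟨i, hi⟩
  · intro U hi hk p hp
    exact (hik (h.disjoint i k p (hi hp) (hk hp))).elim

theorem exists_isSplitting (π : X ⟶ S) [IsFinite π] [Etale π] (s : S) :
    ∃ (W : Scheme.{u}) (w : W ⟶ S) (T : Scheme.{u}) (t : T ⟶ W) (n : ℕ) (σ : Fin n → (T ⟶ X)),
      IsOpenImmersion w ∧ s ∈ Set.range w.base ∧
      (@Surjective ⊓ @Flat ⊓ @QuasiCompact : MorphismProperty Scheme.{u}) t ∧ IsSplitting π (t ≫ w) σ := by
  classical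
  obtain ⟨U, hU, hsU, -⟩ := exists_isAffineOpen_mem_and_subset (x := s) (U := ⊤) trivial
  have hP : IsAffineOpen (π ⁻¹ᵁ U) := hU.preimage π
  algebraize [(π.app U).hom]
  haveI : Module.Finite Γ(S, U) Γ(X, π ⁻¹ᵁ U) :=
    RingHom.finite_algebraMap.1 (IsFinite.finite_app (f := π) U hU)
  haveI : Algebra.Etale Γ(S, U) Γ(X, π ⁻¹ᵁ U) := by
    have h := HasRingHomProperty.appLE @Etale π inferInstance ⟨U, hU⟩ ⟨_, hP⟩ le_rfl
    change (π.app U).hom.Etale
    rw [Scheme.Hom.app_eq_appLE]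
    exact h
  let p : PrimeSpectrum Γ(S, U) := hU.primeIdealOf ⟨s, hsU⟩
  obtain ⟨D, _, _, hD, hpD, n, ⟨β⟩⟩ :=
    Pi1X.exists_split _ Γ(S, U) Γ(X, π ⁻¹ᵁ U) p rfl
  let q : Spec (CommRingCat.of D) ⟶ Spec Γ(S, U) := Spec.map (CommRingCat.ofHom (algebraMap Γ(S, U) D))
  haveI : Etale q := HasRingHomProperty.Spec_iff.mpr (RingHom.etale_algebraMap.mpr hD)
  let V : (Spec Γ(S, U)).Opens := ⟨Set.range q.base, (q.isOpenMap).isOpen_range⟩
  let σ : Fin n → (Spec (CommRingCat.of D) ⟶ X) := fun i =>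
    Spec.map (CommRingCat.ofHom ((Pi.evalRingHom (fun _ : Fin n => D) i).comp
      ((β.toRingEquiv.toRingHom).comp Algebra.TensorProduct.includeRight.toRingHom))) ≫ hP.fromSpec
  have hbot : IsPullback hP.fromSpec (Spec.map (CommRingCat.ofHom (algebraMap Γ(S, U) Γ(X, π ⁻¹ᵁ U)))) π hU.fromSpec := by
    refine (IsOpenImmersion.isPullback _ hP.fromSpec hU.fromSpec π ?_ ?_).flip
    · rw [show (CommRingCat.ofHom (algebraMap Γ(S, U) Γ(X, π ⁻¹ᵁ U))) = π.appLE U (π ⁻¹ᵁ U) le_rfl from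
        π.app_eq_appLE]
      exact (hU.SpecMap_appLE_fromSpec π hP le_rfl).symm
    · rw [hU.opensRange_fromSpec, hP.opensRange_fromSpec]
  have htop : IsPullback (Spec.map (CommRingCat.ofHom (Algebra.TensorProduct.includeRight.toRingHom :
        Γ(X, π ⁻¹ᵁ U) →+* D ⊗[Γ(S, U)] Γ(X, π ⁻¹ᵁ U))))
      (Spec.map (CommRingCat.ofHom (Algebra.TensorProduct.includeLeftRingHom :
        D →+* D ⊗[Γ(S, U)] Γ(X, π ⁻¹ᵁ U))))
      (Spec.map (CommRingCat.ofHom (algebraMap Γ(S, U) Γ(X, π ⁻¹ᵁ U)))) q :=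
    (isPullback_SpecMap_of_isPushout _ _ _ _ (CommRingCat.isPushout_tensorProduct Γ(S, U) D Γ(X, π ⁻¹ᵁ U))).flip
  have hpb := htop.paste_horiz hbot
  let J := ULift.{u} (Fin n)
  let δ : D ⊗[Γ(S, U)] Γ(X, π ⁻¹ᵁ U) ≃+* (J → D) :=
    β.toRingEquiv.trans (RingEquiv.piCongrLeft' (fun _ : Fin n => D) Equiv.ulift.symm)
  have hδ : ∀ x (i : J), δ x i = β x i.down := fun x i => rfl
  let b : Spec (CommRingCat.of (J → D)) ⟶ Spec (CommRingCat.of (D ⊗[Γ(S, U)] Γ(X, π ⁻¹ᵁ U))) :=
    Spec.map (CommRingCat.ofHom δ.toRingHom)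
  haveI : IsIso b := by
    haveI : IsIso (CommRingCat.ofHom δ.toRingHom) :=
      inferInstanceAs (IsIso δ.toCommRingCatIso.hom)
    infer_instance
  let R' : J → CommRingCat.{u} := fun _ => CommRingCat.of D
  haveI : IsIso (sigmaSpec R') := inferInstance
  let e : (∐ fun i => Spec (R' i)) ⟶ pullback π (q ≫ hU.fromSpec) :=
    sigmaSpec R' ≫ b ≫ hpb.isoPullback.hom
  haveI : IsIso e := inferInstanceAs (IsIso (sigmaSpec R' ≫ b ≫ hpb.isoPullback.hom))
  have hw : ∀ i, σ i ≫ π = q ≫ hU.fromSpec := fun i => by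
    simp only [σ, Category.assoc, hbot.w, q, ← Spec.map_comp_assoc]
    congr 2
    ext a
    show β ((1 : D) ⊗ₜ[Γ(S, U)] algebraMap Γ(S, U) Γ(X, π ⁻¹ᵁ U) a) i = algebraMap Γ(S, U) D a
    rw [← Algebra.TensorProduct.algebraMap_apply' a]
    rw [IsScalarTower.algebraMap_apply Γ(S, U) D (D ⊗[Γ(S, U)] Γ(X, π ⁻¹ᵁ U)), β.commutes]
    rfl
  have hf : ∀ i, pullback.lift (σ i) (𝟙 _) ((hw i).trans (Category.id_comp _).symm) =
      Sigma.ι (fun i => Spec (R' i)) (ULift.up i) ≫ e := by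
    intro i
    simp only [e, ι_sigmaSpec_assoc]
    apply pullback.hom_ext
    · simp only [pullback.lift_fst, Category.assoc, IsPullback.isoPullback_hom_fst, σ, b, ← Spec.map_comp_assoc]
      rfl
    · simp only [pullback.lift_snd, Category.assoc, IsPullback.isoPullback_hom_snd, b, ← Spec.map_comp]
      rw [← Spec.map_id]
      congr 1
      ext d
      show d = β (d ⊗ₜ[Γ(S, U)] 1) i
      exact (congrFun (β.commutes d) i).symm
  have h0 : IsSplitting π (q ≫ hU.fromSpec) σ := by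
    refine ⟨hw, fun i => ?_, fun x => ?_, fun i k x hi hk => ?_⟩
    · rw [hf]
      haveI : IsOpenImmersion e := inferInstance
      exact IsOpenImmersion.comp _ _
    · obtain ⟨z, hz⟩ := e.homeomorph.surjective x
      obtain ⟨⟨⟨i⟩, y⟩, rfl⟩ := (sigmaMk fun i => Spec (R' i)).surjective z
      refine ⟨i, y, ?_⟩
      rw [hf, Scheme.Hom.comp_apply]
      exact (congrArg e.base (sigmaMk_mk (fun i => Spec (R' i)) (ULift.up i) y).symm).trans hz
    · obtain ⟨y, hy⟩ := hi
      obtain ⟨z, hz⟩ := hk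
      rw [hf, Scheme.Hom.comp_apply] at hy hz
      have h1 := (congrArg e.base (sigmaMk_mk (fun i => Spec (R' i)) (ULift.up i) y)).trans hy
      have h2 := (congrArg e.base (sigmaMk_mk (fun i => Spec (R' i)) (ULift.up k) z)).trans hz
      have := e.homeomorph.injective (h1.trans h2.symm)
      exact ULift.up_injective (congrArg Sigma.fst ((sigmaMk fun i => Spec (R' i)).injective this))
  refine ⟨V, V.ι ≫ hU.fromSpec, (q ⁻¹ᵁ V : Scheme.{u}), q ∣_ V, n, fun i => (q ⁻¹ᵁ V).ι ≫ σ i, inferInstance, ?_, ⟨⟨?_, ?_⟩, ?_⟩, ?_⟩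
  · refine ⟨⟨p, hpD⟩, ?_⟩
    show hU.fromSpec.base p = s
    exact hU.fromSpec_primeIdealOf ⟨s, hsU⟩
  · refine ⟨fun v => ?_⟩
    obtain ⟨z, hz⟩ := v.2
    refine ⟨⟨z, show q.base z ∈ V from ⟨z, rfl⟩⟩, Subtype.ext ?_⟩
    rw [morphismRestrict_base]
    exact hz
  · exact IsZariskiLocalAtTarget.restrict (P := @Flat) (inferInstanceAs (Flat q)) V
  · exact IsZariskiLocalAtTarget.restrict (P := @QuasiCompact) (inferInstanceAs (QuasiCompact q)) V
  · exact h0.baseChange (q ⁻¹ᵁ V).ι _ (by rw [morphismRestrict_ι_assoc])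

end Groth.Agent.H9HomFEt
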